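import Cfsg.Agent.H249.Ore.ExcA
import Cfsg.Agent.H197.OreF.Main

/-!
# The exceptional rows of S2443 and S4171, unconditional (helper249)
-/

set_option autoImplicit false

namespace Cfsg.Agent.H249.Ore

open Cfsg.Lie Cfsg.Agent.H777.Ore Cfsg.Agent.H459.Ore

universe u

theorem twoF4 : TwoF4 := fun _ _ _ h => ⟨Cfsg.Agent.H197.OreF.allC_F4_two h, Cfsg.Agent.H197.OreF.inv4_F4_two h⟩

/-- **S2443, the exceptional rows.** -/
theorem ore_exc : ExcRows.{u} (fun G _ => AllC G) := ore_of (exc_of twoF4)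

/-- **S4171, the exceptional rows.** -/
theorem four_exc : ExcRows.{u} (fun G _ => Inv4 G) := four_of (exc_of twoF4)

end Cfsg.Agent.H249.Ore
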