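import Cfsg.Agent.H459.Ore.Frame
import Cfsg.Agent.H538.Ore.Small
import Cfsg.Agent.H143.Ore.TwF
import Cfsg.Agent.H928.Ore.TwAll
import Cfsg.Agent.H85.Ore.EEight
import Cfsg.Agent.H267.Ore.ESevenTwo
import Cfsg.Agent.H122.Ore.ETwo
import Cfsg.Agent.H194.Ore.RowEF
import Cfsg.Agent.H150.E6T.Row
import Cfsg.Agent.H374.Ore.F4
import Cfsg.Agent.H584.Ore.ESixTwo

/-!
# The exceptional rows of S2443 and S4171 (helper249)

`exc_of` : all exceptional families, from the group `F₄(2)`.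
-/

set_option autoImplicit false

namespace Cfsg.Agent.H249.Ore

open Cfsg.Lie Cfsg.Agent.H777.Ore Cfsg.Agent.H459.Ore

universe u

/-- both rows -/
def Bo (G : Type*) [Group G] : Prop := AllC G ∧ Inv4 G

theorem Bo.congr {G H : Type*} [Group G] [Group H] (e : G ≃* H) (h : Bo G) : Bo H := ⟨h.1.congr e, Cfsg.Agent.H459.Ore.Inv4.congr e h.2⟩

theorem card_cases (F : Type) [Field F] [Fintype F] :
    Fintype.card F = 2 ∨ Fintype.card F = 3 ∨ 4 ≤ Fintype.card F := by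
  have h : 1 < Fintype.card F := Fintype.one_lt_card
  omega

/-- `F₄(2)` -/
def TwoF4 : Prop := ∀ (F : Type) [Field F] [Fintype F], Fintype.card F = 2 → Bo ↥(chevF4.group F)

theorem bo_f4 (H : TwoF4) (F : Type) [Field F] [Fintype F] : Bo ↥(chevF4.group F) := by
  rcases card_cases F with h | h | h
  · exact H F h
  · exact Cfsg.Agent.H374.Ore.F4.row_three (by rw [Nat.card_eq_fintype_card, h])
  · exact Cfsg.Agent.H194.Ore.rowF4 (by rw [Nat.card_eq_fintype_card]; exact h)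

theorem bo_e6 (F : Type) [Field F] [Fintype F] : Bo ↥(chevE6.group F) := by
  rcases card_cases F with h | h | h
  · have h' : Nat.card F = 2 := by rw [Nat.card_eq_fintype_card, h]
    exact ⟨Cfsg.Agent.H584.Ore.ESixTwo.allC_E6_two h', Cfsg.Agent.H584.Ore.ESixTwo.inv4_E6_two h'⟩
  · exact ⟨Cfsg.Agent.H150.E6T.ore_e6_three (by rw [Nat.card_eq_fintype_card, h]),
      Cfsg.Agent.H150.E6T.inv_e6_three (by rw [Nat.card_eq_fintype_card, h])⟩
  · exact Cfsg.Agent.H194.Ore.rowE6 (by rw [Nat.card_eq_fintype_card]; exact h)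

theorem bo_e7 (F : Type) [Field F] [Fintype F] : Bo ↥(chevE7.group F) := by
  by_cases h : Fintype.card F = 2
  · exact ⟨Cfsg.Agent.H267.Ore.allC_E7_two h, Cfsg.Agent.H267.Ore.inv4_E7_two h⟩
  · have h1 : 1 < Fintype.card F := Fintype.one_lt_card
    have h3 : 3 ≤ Nat.card F := by rw [Nat.card_eq_fintype_card]; omega
    exact ⟨Cfsg.Agent.H85.Ore.allC_E7 F h3, Cfsg.Agent.H85.Ore.inv4_E7 F h3⟩

theorem bo_e8 (F : Type) [Field F] [Fintype F] : Bo ↥(chevE8.group F) := by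
  by_cases h : Fintype.card F = 2
  · exact Cfsg.Agent.H122.Ore.Blk.row_E8_two (by rw [Nat.card_eq_fintype_card, h])
  · have h1 : 1 < Fintype.card F := Fintype.one_lt_card
    have h3 : 3 ≤ Nat.card F := by rw [Nat.card_eq_fintype_card]; omega
    exact ⟨Cfsg.Agent.H85.Ore.allC_E8 F h3, Cfsg.Agent.H85.Ore.inv4_E8 F h3⟩

/-- **The exceptional rows.** -/
theorem exc_of (HF : TwoF4) : ExcRows.{u} (fun G _ => Bo G) where
  g2 h := ⟨Cfsg.Agent.H538.Ore.ore_g2 h, Cfsg.Agent.H538.Ore.four_g2 h⟩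
  f4 h := by
    obtain ⟨F, i1, i2, ⟨e⟩⟩ := h
    exact (bo_f4 HF F).congr e.symm
  e6 h := by
    obtain ⟨F, i1, i2, ⟨e⟩⟩ := h
    exact (bo_e6 F).congr e.symm
  e7 h := by
    obtain ⟨F, i1, i2, ⟨e⟩⟩ := h
    exact (bo_e7 F).congr e.symm
  e8 h := by
    obtain ⟨F, i1, i2, ⟨e⟩⟩ := h
    exact (bo_e8 F).congr e.symm
  te6 h := by
    obtain ⟨K, i1, i2, q, hq, hK, ⟨e⟩⟩ := h
    exact Bo.congr e.symm (Cfsg.Agent.H928.Ore.TwAll.row hq hK)
  td4 h := ⟨Cfsg.Agent.H538.Ore.ore_d4 h, Cfsg.Agent.H538.Ore.four_d4 h⟩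
  sz h := ⟨Cfsg.Agent.H538.Ore.ore_sz h, Cfsg.Agent.H538.Ore.four_sz h⟩
  ree h := ⟨Cfsg.Agent.H538.Ore.ore_ree h, Cfsg.Agent.H538.Ore.four_ree h⟩
  tf4 h := ⟨Cfsg.Agent.H143.Ore.ore_2f4 h, Cfsg.Agent.H143.Ore.four_2f4 h⟩
  tits h := ⟨Cfsg.Agent.H143.Ore.ore_tits h, Cfsg.Agent.H143.Ore.four_tits h⟩

theorem ore_of (R : ExcRows.{u} (fun G _ => Bo G)) : ExcRows.{u} (fun G _ => AllC G) where
  g2 h := (R.g2 h).1
  f4 h := (R.f4 h).1
  e6 h := (R.e6 h).1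
  e7 h := (R.e7 h).1
  e8 h := (R.e8 h).1
  te6 h := (R.te6 h).1
  td4 h := (R.td4 h).1
  sz h := (R.sz h).1
  ree h := (R.ree h).1
  tf4 h := (R.tf4 h).1
  tits h := (R.tits h).1

theorem four_of (R : ExcRows.{u} (fun G _ => Bo G)) : ExcRows.{u} (fun G _ => Inv4 G) where
  g2 h := (R.g2 h).2
  f4 h := (R.f4 h).2
  e6 h := (R.e6 h).2
  e7 h := (R.e7 h).2
  e8 h := (R.e8 h).2
  te6 h := (R.te6 h).2
  td4 h := (R.td4 h).2
  sz h := (R.sz h).2
  ree h := (R.ree h).2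
  tf4 h := (R.tf4 h).2
  tits h := (R.tits h).2

end Cfsg.Agent.H249.Ore
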